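import Groth.Agent.S2826
import Groth.Agent.S1177
import Groth.Agent.PurePair.FlatBC
import Groth.Agent.W7FlatBC.Main
import Groth.Agent.QC.Localisation
import Groth.Agent.ModDesc.LocFreeDesc
import Groth.Agent.ResDesc.ResProp
import Groth.Agent.TMul.AmpleBasis
import Groth.Agent.TMul.AmpleComp

/-!
fpqc descent of parafactoriality of pairs.
-/

set_option autoImplicit false
set_option linter.style.haveILetI false
set_option backward.isDefEq.respectTransparency false
set_option backward.isDefEq.respectTransparency.types false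
set_option maxHeartbeats 2000000

universe u

open CategoryTheory CategoryTheory.Limits AlgebraicGeometry TopologicalSpace

noncomputable section

namespace Groth.Agent.FlatParaF

variable {X X' : Scheme.{u}}

/-- invertibility of a finite locally free module is detected by a surjective pullback -/
theorem isInvertible_of_pullback (g : X' ⟶ X) [Surjective g] {F : X.Modules} (hF : FlatMod.IsFinLocFree F)
    (h : PicF.IsInvertible ((Scheme.Modules.pullback g).obj F)) : PicF.IsInvertible F := by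
  intro x
  obtain ⟨W, n, hxW, ⟨e⟩⟩ := hF x
  obtain ⟨y, hy⟩ := g.surjective x
  obtain ⟨W', hyW', ⟨e'⟩⟩ := h y
  obtain ⟨e₁⟩ := ModDesc.exists_free_pullback g e
  have hn : n = 1 := ModDesc.rank_unique e₁
    (e' ≪≫ (coproductUniqueIso fun _ : Fin 1 => Coh.structureModule (W' : Scheme.{u})).symm)
    (show y ∈ g ⁻¹ᵁ W by change g y ∈ W; rwa [hy]) hyW'
  subst hn
  exact ⟨W, hxW, ⟨e ≪≫ coproductUniqueIso _⟩⟩

section

open TensorProduct

theorem bijective_lTensor_pi {B M N : Type u} [CommRing B] [AddCommGroup M] [Module B M] [AddCommGroup N]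
    [Module B N] {ι : Type u} [Fintype ι] {P : ι → Type u} [∀ i, AddCommGroup (P i)] [∀ i, Module B (P i)]
    (φ : M →ₗ[B] N) (h : ∀ i, Function.Bijective (φ.lTensor (P i))) :
    Function.Bijective (φ.lTensor (∀ i, P i)) := by
  classical
  let eM : (∀ i, P i) ⊗[B] M ≃ₗ[B] ∀ i, P i ⊗[B] M := TensorProduct.piLeft ..
  let eN : (∀ i, P i) ⊗[B] N ≃ₗ[B] ∀ i, P i ⊗[B] N := TensorProduct.piLeft ..
  have hc : ∀ x, eN (φ.lTensor _ x) = fun i => φ.lTensor (P i) (eM x i) := fun x => by
    induction x using TensorProduct.induction_on with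
    | zero => funext i; simp
    | tmul a b => funext i; simp [eM, eN]
    | add a b ha hb => funext i; simp [ha, hb]
  refine ⟨fun x y hxy => eM.injective (funext fun i => (h i).1 ?_), fun z => ?_⟩
  · exact (congrFun (hc x) i).symm.trans ((congrFun (congrArg eN hxy) i).trans (congrFun (hc y) i))
  · choose v hv using fun i => (h i).2 (eN z i)
    exact ⟨eM.symm v, eN.injective (by rw [hc, LinearEquiv.apply_symm_apply]; funext i; exact hv i)⟩

theorem bijective_lTensor_of_isPushout {B C O T : CommRingCat.{u}} {g : B ⟶ O} {j : B ⟶ C} {a : O ⟶ T} {b : C ⟶ T}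
    (h : IsPushout j g b a) (ha : Function.Bijective a) :
    letI : Algebra B O := g.hom.toAlgebra
    letI : Algebra B C := j.hom.toAlgebra
    Function.Bijective ((Algebra.linearMap B C).lTensor O) := by
  letI : Algebra B O := g.hom.toAlgebra
  letI : Algebra B C := j.hom.toAlgebra
  let e := h.flip.isoIsPushout _ _ (CommRingCat.isPushout_tensorProduct B O C)
  have he : ∀ x, e.hom (a x) = (x ⊗ₜ[B] (1 : C)) := fun x =>
    ConcreteCategory.congr_hom (h.flip.inl_isoIsPushout_hom (h' := CommRingCat.isPushout_tensorProduct B O C)) x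
  have key : ∀ y : O ⊗[B] B, (Algebra.linearMap B C).lTensor O y = e.hom (a (TensorProduct.rid B O y)) := fun y => by
    induction y using TensorProduct.induction_on with
    | zero => simp
    | add p q hp hq => simp only [map_add, hp, hq]
    | tmul x r =>
      rw [he, LinearMap.lTensor_tmul, TensorProduct.rid_tmul, TensorProduct.smul_tmul, Algebra.linearMap_apply,
        Algebra.algebraMap_eq_smul_one]
  rw [show ⇑((Algebra.linearMap B C).lTensor O) = e.hom ∘ a ∘ (TensorProduct.rid B O) from funext key]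
  exact (ConcreteCategory.bijective_of_isIso e.hom).comp (ha.comp (TensorProduct.rid B O).bijective)

end

variable (f : X' ⟶ X) [Flat f] [Surjective f] [QuasiCompact f] (U : X.Opens) [QuasiCompact U.ι]

/-- bijectivity of restriction of functions descends -/
theorem bijective_res_desc
    (h : ∀ O : X'.Opens, Function.Bijective (X'.presheaf.map (homOfLE (inf_le_left : O ⊓ f ⁻¹ᵁ U ≤ O)).op))
    (V : X.Opens) : Function.Bijective (X.presheaf.map (homOfLE (inf_le_left : V ⊓ U ≤ V)).op) := by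
  have aux : ∀ {Z : Scheme.{u}} (U O : Z.Opens),
      Function.Bijective (Z.presheaf.map (homOfLE (inf_le_left : O ⊓ U ≤ O)).op) ↔ Function.Bijective (U.ι.app O) := by
    intro Z U O
    have e : U.ι ''ᵁ U.ι ⁻¹ᵁ O = O ⊓ U := by
      rw [Scheme.Hom.image_preimage_eq_opensRange_inf, Scheme.Opens.opensRange_ι, inf_comm]
    have key : ∀ P (h : P ≤ O), P = O ⊓ U →
        (Function.Bijective (Z.presheaf.map (homOfLE (inf_le_left : O ⊓ U ≤ O)).op) ↔
          Function.Bijective (Z.presheaf.map (homOfLE h).op)) := by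
      rintro P h rfl; rfl
    rw [Scheme.Opens.ι_app]
    exact key _ _ e
  rw [aux]
  refine PurePair.bijective_app_of_basis U.ι {O | IsAffineOpen O} (fun W x hx => ?_) ?_ V
  · obtain ⟨O, hO, hxO, hOW⟩ := exists_isAffineOpen_mem_and_subset (U := W) hx
    exact ⟨O, hO, hxO, hOW⟩
  intro V (hV : IsAffineOpen V)
  obtain ⟨t, ht⟩ : ∃ t : Finset X'.affineOpens, (f ⁻¹ᵁ V : Set X') = ⋃ W ∈ t, (W.1 : Set X') := by
    obtain ⟨t, ht, ht'⟩ := (isCompact_and_isOpen_iff_finite_and_eq_biUnion_affineOpens (X := X')).1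
      ⟨f.isCompact_preimage hV.isCompact, (f ⁻¹ᵁ V).2⟩
    exact ⟨ht.toFinset, by simpa using ht'⟩
  have hle : ∀ W : t, W.1.1 ≤ f ⁻¹ᵁ V := fun W y hy => by
    have : y ∈ (f ⁻¹ᵁ V : Set X') := by rw [ht]; exact Set.mem_biUnion W.2 hy
    exact this
  letI : ∀ W : t, Algebra Γ(X, V) Γ(X', W.1.1) := fun W => (f.appLE V W.1.1 (hle W)).hom.toAlgebra
  haveI : ∀ W : t, Module.Flat Γ(X, V) Γ(X', W.1.1) := fun W => f.flat_appLE hV W.1.2 (hle W)
  haveI : Module.Flat Γ(X, V) (∀ W : t, Γ(X', W.1.1)) := by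
    classical
    exact Module.Flat.of_linearEquiv (DFinsupp.linearEquivFunOnFintype (R := Γ(X, V))).symm
  haveI : Module.FaithfullyFlat Γ(X, V) (∀ W : t, Γ(X', W.1.1)) := by
    refine Module.FaithfullyFlat.of_comap_surjective fun P => ?_
    obtain ⟨y, hy⟩ := f.surjective (hV.fromSpec P)
    have hyV : f y ∈ V := by
      have : hV.fromSpec P ∈ Set.range hV.fromSpec := ⟨P, rfl⟩
      rw [hV.range_fromSpec] at this; rwa [hy]
    have : y ∈ (f ⁻¹ᵁ V : Set X') := hyV
    rw [ht, Set.mem_iUnion₂] at this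
    obtain ⟨W, hW, hyW⟩ := this
    refine ⟨PrimeSpectrum.comap (Pi.evalRingHom (fun W : t => Γ(X', W.1.1)) ⟨W, hW⟩) (W.2.primeIdealOf ⟨y, hyW⟩), ?_⟩
    rw [← PrimeSpectrum.comap_comp_apply]
    change Spec.map (f.appLE V W.1 (hle ⟨W, hW⟩)) (W.2.primeIdealOf ⟨y, hyW⟩) = P
    apply hV.fromSpec.isOpenEmbedding.injective
    rw [← Scheme.Hom.comp_apply, hV.SpecMap_appLE_fromSpec f W.2, Scheme.Hom.comp_apply, W.2.fromSpec_primeIdealOf]
    exact hy
  let C := Γ((U : Scheme.{u}), U.ι ⁻¹ᵁ V)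
  letI : Algebra Γ(X, V) C := (U.ι.app V).hom.toAlgebra
  let φ : Γ(X, V) →ₗ[Γ(X, V)] C := Algebra.linearMap _ _
  have hloc : ∀ W : t, Function.Bijective (φ.lTensor Γ(X', W.1.1)) := by
    intro W
    let O := W.1.1
    have H : IsPullback (f ⁻¹ᵁ U).ι (f ∣_ U) f U.ι := (isPullback_morphismRestrict f U).flip
    have hle' : (f ⁻¹ᵁ U).ι ⁻¹ᵁ O ≤ (f ∣_ U) ⁻¹ᵁ U.ι ⁻¹ᵁ V := by
      rw [← Scheme.Hom.comp_preimage, ← H.w, Scheme.Hom.comp_preimage]
      exact (f ⁻¹ᵁ U).ι.preimage_mono (hle W)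
    haveI : QuasiSeparated U.ι := inferInstance
    have hpo := (isIso_pushoutSection_iff H.flip (hle W) (le_refl (U.ι ⁻¹ᵁ V)) (UY := (f ⁻¹ᵁ U).ι ⁻¹ᵁ O)
      (inf_eq_right.2 hle').symm).1
      (isIso_pushoutSection_of_isQuasiSeparated_of_flat_right _ _ _ _ hV W.1.2
        (U.ι.isCompact_preimage hV.isCompact) (U.ι.isQuasiSeparated_preimage hV.isQuasiSeparated))
    have hb : Function.Bijective ((f ⁻¹ᵁ U).ι.appLE O ((f ⁻¹ᵁ U).ι ⁻¹ᵁ O) le_rfl) := by
      rw [← Scheme.Hom.app_eq_appLE]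
      exact (aux _ _).1 (h O)
    rw [← U.ι.app_eq_appLE] at hpo
    exact bijective_lTensor_of_isPushout hpo hb
  rw [show Function.Bijective (U.ι.app V) ↔ Function.Bijective φ from Iff.rfl]
  refine (Module.FaithfullyFlat.lTensor_bijective_iff_bijective Γ(X, V) (∀ W : t, Γ(X', W.1.1)) φ).1 ?_
  exact bijective_lTensor_pi φ hloc

omit [QuasiCompact U.ι] in
/-- the pushforward of an invertible module is invertible if it is so after the covering -/
theorem isInvertible_pushforward_desc (V : X.Opens) [QuasiCompact (X.homOfLE (inf_le_left : V ⊓ U ≤ V))]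
    (h : ∀ (V' : X'.Opens) (L' : ((V' ⊓ f ⁻¹ᵁ U : X'.Opens) : Scheme.{u}).Modules), PicF.IsInvertible L' →
      PicF.IsInvertible ((Scheme.Modules.pushforward (X'.homOfLE (inf_le_left : V' ⊓ f ⁻¹ᵁ U ≤ V'))).obj L'))
    (L : ((V ⊓ U : X.Opens) : Scheme.{u}).Modules) (hL : PicF.IsInvertible L) :
    PicF.IsInvertible ((Scheme.Modules.pushforward (X.homOfLE (inf_le_left : V ⊓ U ≤ V))).obj L) := by
  let j := X.homOfLE (inf_le_left : V ⊓ U ≤ V)
  let j' := X'.homOfLE (inf_le_left : f ⁻¹ᵁ V ⊓ f ⁻¹ᵁ U ≤ f ⁻¹ᵁ V)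
  let g : (f ⁻¹ᵁ V : Scheme.{u}) ⟶ (V : Scheme.{u}) := f ∣_ V
  let u : ((f ⁻¹ᵁ V ⊓ f ⁻¹ᵁ U : X'.Opens) : Scheme.{u}) ⟶ ((V ⊓ U : X.Opens) : Scheme.{u}) := f ∣_ (V ⊓ U)
  haveI : Flat g := IsZariskiLocalAtTarget.restrict ‹Flat f› V
  haveI : QuasiCompact g := IsZariskiLocalAtTarget.restrict ‹QuasiCompact f› V
  haveI : Surjective g := IsZariskiLocalAtTarget.restrict ‹Surjective f› V
  have H : IsPullback u j' j g := by
    refine IsPullback.of_bot ?_ ?_ (isPullback_morphismRestrict f V)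
    · have h1 := isPullback_morphismRestrict f (V ⊓ U)
      rw [show j' ≫ (f ⁻¹ᵁ V).ι = (f ⁻¹ᵁ (V ⊓ U)).ι from X'.homOfLE_ι _, show j ≫ V.ι = (V ⊓ U).ι from X.homOfLE_ι _]
      exact h1
    · rw [← cancel_mono V.ι, Category.assoc, X.homOfLE_ι, Category.assoc, morphismRestrict_ι, morphismRestrict_ι,
        ← Category.assoc, X'.homOfLE_ι]
      rfl
  haveI : QuasiSeparated j := inferInstance
  have hq := TMul.isQCoh_of_isInvertible hL
  haveI : L.IsQuasicoherent := hq
  let E := (Scheme.Modules.pushforward j).obj L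
  haveI hE : E.IsQuasicoherent := QC.isQCoh_pushforward j
  have := W7FlatBC.isIso_baseChangeMap (f := j) (g := g) (g' := u) (f' := j') H hq
  have hinv : PicF.IsInvertible ((Scheme.Modules.pullback g).obj E) :=
    ParaFLib.isInvertible_of_iso (@asIso _ _ _ _ _ this).symm (h (f ⁻¹ᵁ V) _ (PicLoc.isInvertible_pullback u hL))
  exact isInvertible_of_pullback g (S1177.result g E (ResDesc.isFinLocFree_of_isInvertible hinv)) hinv

/-- **fpqc descent of parafactoriality of pairs** -/
theorem isParafactorialPair_of_flat (Y : Closeds X) [QuasiCompact (Scheme.Opens.ι Y.compl)]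
    (h : ParaF.IsParafactorialPair X' (ParaF.closedsPreimage f Y)) : ParaF.IsParafactorialPair X Y := by
  obtain ⟨h1, h2⟩ := (S2826.result X' _).1 h
  refine (S2826.result X Y).2 ⟨bijective_res_desc f Y.compl h1, fun V L hL => ?_⟩
  haveI : QuasiCompact (X.homOfLE (inf_le_left : V ⊓ Y.compl ≤ V)) := by
    exact MorphismProperty.of_isPullback (P := @QuasiCompact) (isPullback_opens_inf V Y.compl).flip (inferInstance : QuasiCompact (Scheme.Opens.ι Y.compl))
  exact isInvertible_pushforward_desc f Y.compl V h2 L hL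

end Groth.Agent.FlatParaF
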