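import Groth.Agent.FlatParaF.FibreMod
import Groth.Agent.FormAlg.FreeFin
import Groth.Agent.FormAlg.ParafStalk
import Groth.Agent.DepthExtend.Basic
import Groth.Agent.LefDiv.Finite

/-!
A flat local algebra is parafactorial when its closed fibre is parafactorial of depth at least three.
-/

set_option autoImplicit false
set_option maxHeartbeats 1000000
set_option linter.style.haveILetI false
set_option backward.isDefEq.respectTransparency false
set_option backward.isDefEq.respectTransparency.types false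
universe u

namespace Groth.Agent.FlatParaF

open CategoryTheory CategoryTheory.Limits AlgebraicGeometry TopologicalSpace IsLocalRing

noncomputable section

variable {B : Type u} [CommRing B] [IsNoetherianRing B] [IsLocalRing B]

local notation "U°" => FEt.puncturedSpec B

theorem mem_punctured_iff (p : PrimeSpectrum B) : p ∈ U° ↔ p.asIdeal ≠ maximalIdeal B :=
  not_congr ⟨fun h => congrArg PrimeSpectrum.asIdeal h, fun h => PrimeSpectrum.ext h⟩

theorem loc1_of_invertible {N : ModuleCat.{u} B} [Module.Finite B N] {L : (↑U° : Scheme.{u}).Modules}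
    (hL : PicF.IsInvertible L) (e₀ : (tilde (R := CommRingCat.of B) N).restrict U°.ι ≅ L) : Loc1 (B := B) N := by
  intro p hp hpm
  let x : (↑U° : Scheme.{u}) := ⟨⟨p, hp⟩, (mem_punctured_iff ⟨p, hp⟩).2 hpm⟩
  obtain ⟨W, hxW, ⟨e⟩⟩ := hL x
  haveI : Module.Finite (CommRingCat.of B) (ModuleCat.of B B) := inferInstanceAs (Module.Finite B B)
  obtain ⟨g, hg, φ, ψ, h⟩ := FormAlg.exists_retract_near (R := CommRingCat.of B) U° W (N := N) (Q := ModuleCat.of B B)
    ((Scheme.Modules.restrictFunctor W.ι).mapIso e₀ ≪≫ e ≪≫ asIso (LefDiv.oneU W) ≪≫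
      (Scheme.Modules.restrictFunctor W.ι).mapIso (FormAlg.RRselfIso U°).symm) hxW
  refine ⟨g, hg, ψ (1 : B), φ, fun y => ?_⟩
  rw [← map_smul, ← h y]
  exact congrArg ψ (mul_one (φ y : B)).symm

/-- The powers of a function in the range of a map which is an isomorphism over its basic open. -/
theorem exists_pow_mem_range {R : CommRingCat.{u}} [IsNoetherianRing R] {M : ModuleCat.{u} R} [Module.Finite R M]
    {V : (Spec R).Opens} (g : M ⟶ ModuleCat.of R R)
    (θ : (tilde M).restrict V.ι ≅ (tilde (ModuleCat.of R R)).restrict V.ι)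
    (hθ : (Scheme.Modules.restrictFunctor V.ι).map (tilde.map g) = θ.hom) {r : R}
    (hr : PrimeSpectrum.basicOpen r ≤ V) : ∃ n : ℕ, r ^ n ∈ LinearMap.range g.hom := by
  haveI : Module.Finite R (ModuleCat.of R R) := inferInstanceAs (Module.Finite R R)
  obtain ⟨a, ψ', hψ'⟩ := FormAlg.exists_lift_hom θ.inv hr
  have h1 : ZarPair.tOp (ModuleCat.of R R) (ZarPair.imgD V r) (g (ψ' (1 : R))) =
      r ^ a • ZarPair.tOp (ModuleCat.of R R) (ZarPair.imgD V r) (1 : R) := by
    rw [← ZarPair.app_tOp, hψ', ZarPair.app_smul_spec]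
    refine congrArg (r ^ a • ·) ?_
    refine Eq.trans ?_ (ZarPair.th_inv θ r _)
    rw [← hθ]
    rfl
  obtain ⟨n, hn⟩ := ZarPair.exists_smul_eq_zero (ZarPair.imgD_eq hr) (x := g (ψ' (1 : R)) - r ^ a • (1 : R))
    (by rw [map_sub, map_smul, h1, sub_self])
  rw [smul_sub, sub_eq_zero] at hn
  refine ⟨n + a, r ^ n • ψ' (1 : R), ?_⟩
  rw [map_smul]
  refine hn.trans ?_
  rw [smul_smul, ← pow_add]
  exact mul_one _

variable (J : Ideal B) [IsLocalRing (B ⧸ J)] [IsLocalHom (Ideal.Quotient.mk J)]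

theorem exists_fibre_functional (hd : (2 : ℕ∞) ≤ LocCoh.depth (B ⧸ J) (B ⧸ J))
    (hP : ParaF.PicTrivial (↑(FEt.puncturedSpec (B ⧸ J)) : Scheme.{u}))
    {N : ModuleCat.{u} B} [Module.Finite B N] {L : (↑U° : Scheme.{u}).Modules}
    (hL : PicF.IsInvertible L) (e₀ : (tilde (R := CommRingCat.of B) N).restrict U°.ι ≅ L) :
    ∃ (h₀ : N →ₗ[B] B ⧸ J) (k : ℕ), ∀ f ∈ maximalIdeal (B ⧸ J) ^ k, ∃ x, h₀ x = f := by
  let φ : CommRingCat.of B ⟶ CommRingCat.of (B ⧸ J) := CommRingCat.ofHom (Ideal.Quotient.mk J)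
  let M := ZarPair.bc φ N
  let V : (Spec (CommRingCat.of (B ⧸ J))).Opens := (Spec.map φ) ⁻¹ᵁ U°
  have hV : V = FEt.puncturedSpec (B ⧸ J) := by
    refine Opens.ext (Set.ext fun p => not_congr ?_)
    show PrimeSpectrum.comap (Ideal.Quotient.mk J) p = closedPoint B ↔ p = closedPoint (B ⧸ J)
    rw [← IsLocalRing.comap_closedPoint (Ideal.Quotient.mk J)]
    exact (PrimeSpectrum.comap_injective_of_surjective _ Ideal.Quotient.mk_surjective).eq_iff
  have hV' : ParaF.PicTrivial (↑V : Scheme.{u}) := hV ▸ hP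
  obtain ⟨τ⟩ := hV' ((Scheme.Modules.pullback (Spec.map φ ∣_ U°)).obj L) (PicLoc.isInvertible_pullback _ hL)
  let θ : (tilde M).restrict V.ι ≅ Coh.structureModule (↑V : Scheme.{u}) :=
    (ZarPair.pullRestrictIso φ U° N).symm ≪≫ (Scheme.Modules.pullback _).mapIso e₀ ≪≫ τ
  haveI : Module.Finite (B ⧸ J) M := inferInstanceAs (Module.Finite (B ⧸ J)
    (letI := φ.hom.toAlgebra; TensorProduct B (B ⧸ J) N))
  let Q : ModuleCat.{u} (B ⧸ J) := ModuleCat.of (B ⧸ J) (B ⧸ J)
  let θ' : (tilde M).restrict V.ι ≅ (tilde (R := CommRingCat.of (B ⧸ J)) Q).restrict V.ι :=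
    θ ≪≫ (FormAlg.RRselfIso V).symm
  obtain ⟨ψ, hψ⟩ := (DepthExtend.bijective_restrict_hom V (Coh.structureModule (Spec (CommRingCat.of (B ⧸ J))))
    (tilde M) RefStalk.isCoh_structureModule fun x hx => by
      rw [hV] at hx
      obtain rfl : x = closedPoint (B ⧸ J) := not_not.1 hx
      rw [DepthExtend.depth_structureModule]
      exact hd.trans_eq (Purity.depth_stalk_closedPoint (B ⧸ J)).symm).2 (θ.hom ≫ LefDiv.oneU V)
  haveI : (tilde.functor (CommRingCat.of (B ⧸ J))).Full := tilde.fullyFaithfulFunctor.full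
  obtain ⟨g, hg⟩ := (tilde.functor (CommRingCat.of (B ⧸ J))).map_surjective
    (ψ ≫ (tildeSelf (R := CommRingCat.of (B ⧸ J))).inv)
  have hθ : (Scheme.Modules.restrictFunctor V.ι).map (tilde.map g) = θ'.hom := by
    refine (congrArg _ hg).trans ?_
    rw [Functor.map_comp, show (Scheme.Modules.restrictFunctor V.ι).map ψ = θ.hom ≫ LefDiv.oneU V from hψ,
      Category.assoc]
    rfl
  obtain ⟨k, hk⟩ := pow_le_of_forall (LinearMap.range g.hom : Ideal (B ⧸ J)) fun p hp hpm => by
    obtain ⟨r, hpr, hr⟩ := LocH.exists_basicOpen_le (A := B ⧸ J) (U := V) (x := (⟨p, hp⟩ : PrimeSpectrum (B ⧸ J)))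
      (hV ▸ (mem_punctured_iff ⟨p, hp⟩).2 hpm)
    obtain ⟨n, hn⟩ := exists_pow_mem_range (R := CommRingCat.of (B ⧸ J)) g θ' hθ hr
    exact ⟨r ^ n, hn, fun h => hpr (hp.mem_of_pow_mem _ h)⟩
  let u := (ModuleCat.extendRestrictScalarsAdj.{u, u, u} φ.hom).unit.app N
  let h₀ : N →ₗ[B] B ⧸ J :=
    { toFun := fun y => g (show M from u y)
      map_add' := fun a b => by
        rw [map_add]
        exact map_add g.hom _ _
      map_smul' := fun c y => by
        rw [map_smul]
        exact map_smul g.hom (Ideal.Quotient.mk J c) _ }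
  refine ⟨h₀, k, fun f hf => ?_⟩
  obtain ⟨x, rfl⟩ := hk hf
  clear hf
  letI := φ.hom.toAlgebra
  induction x using TensorProduct.induction_on with
  | zero => exact ⟨0, by rw [map_zero, map_zero]⟩
  | tmul r y =>
    obtain ⟨c, rfl⟩ := Ideal.Quotient.mk_surjective r
    refine ⟨c • y, ?_⟩
    rw [map_smul]
    show Ideal.Quotient.mk J c • g.hom (show M from u y) = _
    rw [← map_smul]
    refine congrArg g.hom ?_
    show Ideal.Quotient.mk J c • ((1 : B ⧸ J) ⊗ₜ[B] y) = _
    rw [TensorProduct.smul_tmul', smul_eq_mul, mul_one]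
  | add x x' hx hx' =>
    obtain ⟨y, hy⟩ := hx
    obtain ⟨y', hy'⟩ := hx'
    exact ⟨y + y', by rw [map_add, hy, hy']; exact (map_add g.hom _ _).symm⟩

/-- Parafactoriality ascends from a fibre of depth at least three. -/
theorem isParafactorial_of_fibre
    (hgr : ∀ n : ℕ, ∃ (r : ℕ) (c : Fin r → B), (∀ i, c i ∈ J ^ n) ∧
      (∀ w ∈ J ^ n, ∃ β : Fin r → B, w - ∑ i, β i * c i ∈ J ^ (n + 1)) ∧
      ∀ β : Fin r → B, ∑ i, β i * c i ∈ J ^ (n + 1) → ∀ i, β i ∈ J)
    (hd : (3 : ℕ∞) ≤ LocCoh.depth (B ⧸ J) (B ⧸ J)) (hP : ParaF.IsParafactorialLocalRing (B ⧸ J))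
    (hdB : (2 : ℕ∞) ≤ LocCoh.depth B B) : ParaF.IsParafactorialLocalRing B := by
  refine (S2824.result B).2 ⟨FormAlg.bijective_restrict_punctured B hdB, fun L hL => ?_⟩
  obtain ⟨N, hN, ⟨e₀⟩⟩ := ZarPair.exists_tilde_restrict (R := CommRingCat.of B) U° L
    (TMul.isQCoh_of_isInvertible hL) (TMul.isFT_of_isInvertible hL)
  haveI : Module.Finite B N := hN
  obtain ⟨T⟩ := exists_rs3 hd
  obtain ⟨h₀, k, hk⟩ := exists_fibre_functional J (le_trans (by norm_num) hd) ((S2824.result _).1 hP).2 hL e₀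
  obtain ⟨h, hh⟩ := exists_trivializing T hgr N (loc1_of_invertible hL e₀) h₀ k hk
  obtain ⟨l, f, hfU, hcov⟩ := ZarPair.exists_basicOpen_cover (R := CommRingCat.of B) U°
  have hm : ∀ a, f a ∈ maximalIdeal B := fun a => by
    by_contra hc
    exact (mem_punctured_iff (closedPoint B)).1 (hfU a (show closedPoint B ∈ PrimeSpectrum.basicOpen (f a) from hc)) rfl
  let v : N ⟶ ModuleCat.of B B := ModuleCat.ofHom h
  haveI := ZarPair.isIso_restrict (R := CommRingCat.of B) f v (fun x hx a => by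
    obtain ⟨n, hn⟩ := pow_le_of_forall ((⊥ : Submodule B N).colon {x}) fun p hp hpm => by
      obtain ⟨c, hc, hcx⟩ := (hh p hp hpm).2 x hx
      exact ⟨c, Submodule.mem_colon_singleton.2 ((Submodule.mem_bot B).2 hcx), hc⟩
    exact ⟨n, (Submodule.mem_bot B).1 (Submodule.mem_colon_singleton.1 (hn (Ideal.pow_mem_pow (hm a) n)))⟩)
    (fun y a => by
      obtain ⟨n, hn⟩ := pow_le_of_forall (LinearMap.range h : Ideal B) fun p hp hpm => by
        obtain ⟨x, hx⟩ := (hh p hp hpm).1
        exact ⟨h x, ⟨x, rfl⟩, hx⟩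
      obtain ⟨x, hx⟩ := hn (Ideal.pow_mem_pow (hm a) n)
      refine ⟨n, (show B from y) • x, ?_⟩
      show h ((show B from y) • x) = _
      rw [map_smul, hx]
      exact mul_comm _ _) hfU hcov
  exact ⟨e₀.symm ≪≫ asIso ((Scheme.Modules.restrictFunctor U°.ι).map (tilde.map v)) ≪≫ FormAlg.RRselfIso U°⟩

omit J

/-- Parafactoriality of a flat local algebra from its closed fibre. -/
theorem isParafactorial_of_flat {A : Type u} [CommRing A] [IsNoetherianRing A] [IsLocalRing A] [Algebra A B]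
    [Module.Flat A B] [IsLocalHom (algebraMap A B)]
    [IsLocalRing (B ⧸ (maximalIdeal A).map (algebraMap A B))]
    (hd : (3 : ℕ∞) ≤ LocCoh.depth (B ⧸ (maximalIdeal A).map (algebraMap A B))
      (B ⧸ (maximalIdeal A).map (algebraMap A B)))
    (hP : ParaF.IsParafactorialLocalRing (B ⧸ (maximalIdeal A).map (algebraMap A B))) :
    ParaF.IsParafactorialLocalRing B := by
  haveI := IsLocalHom.of_surjective _ (Ideal.Quotient.mk_surjective (I := (maximalIdeal A).map (algebraMap A B)))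
  exact isParafactorial_of_fibre _ (fun n => exists_graded_basis n) hd hP
    (le_trans (by norm_num) (LefDiv.le_depth_of_fibre_depth (R := A) (d := 3) hd))

/-- Parafactoriality of the local rings of a flat scheme from those of the fibre. -/
theorem isParafactorial_stalk_of_fibre {X Y : Scheme.{u}} (f : X ⟶ Y) [IsLocallyNoetherian X] [IsLocallyNoetherian Y]
    [Flat f] (x : X) (hd : (3 : ℕ∞) ≤ LocCoh.depth (CInt.fiberStalk f x) (CInt.fiberStalk f x))
    (hP : ParaF.IsParafactorialLocalRing (CInt.fiberStalk f x)) :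
    ParaF.IsParafactorialLocalRing (X.presheaf.stalk x) := by
  letI := (f.stalkMap x).hom.toAlgebra
  haveI : Module.Flat (Y.presheaf.stalk (f x)) (X.presheaf.stalk x) := Flat.stalkMap f x
  haveI : IsLocalHom (algebraMap (Y.presheaf.stalk (f x)) (X.presheaf.stalk x)) :=
    inferInstanceAs (IsLocalHom (f.stalkMap x).hom)
  obtain ⟨e⟩ := CMFlat.nonempty_fiberStalk_equiv f x
  haveI : IsLocalRing (X.presheaf.stalk x ⧸ (maximalIdeal (Y.presheaf.stalk (f x))).map
      (algebraMap (Y.presheaf.stalk (f x)) (X.presheaf.stalk x))) := e.symm.isLocalRing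
  haveI : IsNoetherianRing ((f.fiber (f x)).presheaf.stalk (f.asFiber x)) := isNoetherianRing_of_ringEquiv _ e
  exact isParafactorial_of_flat (A := Y.presheaf.stalk (f x)) (hd.trans (CMChart.depth_le_of_ringEquiv e.symm))
    (FormAlg.isParafactorial_congr e.symm hP)

end

end Groth.Agent.FlatParaF
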