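import Groth.Agent.LocH.Depth
import Groth.Agent.LocH.DepthStep
import Mathlib.RingTheory.Filtration
import Mathlib.RingTheory.Flat.Basic
import Mathlib.LinearAlgebra.Quotient.Pi

/-!
Lifting functionals on a module locally free of rank one on the punctured spectrum, from a fibre of depth at least
three of a flat local homomorphism.
-/

set_option autoImplicit false
set_option maxHeartbeats 1000000
set_option linter.unusedSectionVars false
universe u

open scoped TensorProduct

namespace Groth.Agent.FlatParaF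

/-- Three successive regular elements of the maximal ideal. -/
structure RS3 (R : Type u) [CommRing R] [IsLocalRing R] where
  x : R
  y : R
  z : R
  hx : x ∈ IsLocalRing.maximalIdeal R
  hy : y ∈ IsLocalRing.maximalIdeal R
  hz : z ∈ IsLocalRing.maximalIdeal R
  x_reg : ∀ c : R, x * c = 0 → c = 0
  y_reg : ∀ c : R, x ∣ y * c → x ∣ c
  z_reg : ∀ c : R, z * c ∈ Ideal.span {x, y} → c ∈ Ideal.span {x, y}

section

variable {R : Type u} [CommRing R] [IsLocalRing R]

theorem exists_rs3 [IsNoetherianRing R] (h : (3 : ℕ∞) ≤ LocCoh.depth R R) : Nonempty (RS3 R) := by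
  obtain ⟨rs, hlen, hreg, hmem⟩ := LocH.exists_isWeaklyRegular (IsLocalRing.maximalIdeal R) 3 R
    ((LocH.le_idealDepth_iff _ R 3).1 h)
  match rs, hlen with
  | [x, y, z], _ =>
    have hh := (RingTheory.Sequence.isWeaklyRegular_iff R [x, y, z]).1 hreg
    have key : ∀ (J : Ideal R) (r : R), IsSMulRegular (R ⧸ J • (⊤ : Submodule R R)) r → ∀ c, r * c ∈ J → c ∈ J := by
      intro J r hr c hc
      have e : J • (⊤ : Submodule R R) = J := by rw [smul_eq_mul, Ideal.mul_top]
      have h1 : r • (Submodule.Quotient.mk c : R ⧸ J • (⊤ : Submodule R R)) = r • 0 := by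
        rw [smul_zero, ← Submodule.Quotient.mk_smul, Submodule.Quotient.mk_eq_zero, e]
        exact hc
      have h2 := hr h1
      rwa [Submodule.Quotient.mk_eq_zero, e] at h2
    have e0 : Ideal.ofList ([] : List R) = ⊥ := Ideal.ofList_nil
    have e1 : Ideal.ofList [x] = Ideal.span {x} := Ideal.ofList_singleton x
    have e2 : Ideal.ofList [x, y] = Ideal.span {x, y} := by
      rw [Ideal.ofList]
      congr 1
      ext w
      simp
    refine ⟨⟨x, y, z, hmem x (by simp), hmem y (by simp), hmem z (by simp), fun c hc => ?_, fun c hc => ?_,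
      fun c hc => ?_⟩⟩
    · have h0 := key _ _ (hh 0 (by simp)) c
      simp only [List.take_zero, e0, List.getElem_cons_zero, Ideal.mem_bot] at h0
      exact h0 hc
    · have h0 := key _ _ (hh 1 (by simp)) c
      simp only [List.take_succ_cons, List.take_zero, e1, List.getElem_cons_succ, List.getElem_cons_zero,
        Ideal.mem_span_singleton] at h0
      exact h0 hc
    · have h0 := key _ _ (hh 2 (by simp)) c
      simp only [List.take_succ_cons, List.take_zero, e2, List.getElem_cons_succ, List.getElem_cons_zero] at h0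
      exact h0 hc

/-- An ideal closed under colons by the maximal ideal containing a power of it is the unit ideal. -/
theorem mem_of_saturated {M : Type u} [AddCommGroup M] [Module R M] (S : Submodule R M)
    (hS : ∀ w : M, (∀ f ∈ IsLocalRing.maximalIdeal R, f • w ∈ S) → w ∈ S) :
    ∀ (k : ℕ) (w : M), (∀ f ∈ IsLocalRing.maximalIdeal R ^ k, f • w ∈ S) → w ∈ S
  | 0, w, h => one_smul R w ▸ h 1 (by simp)
  | k + 1, w, h => mem_of_saturated S hS k w fun f hf => hS _ fun g hg => by
      rw [smul_smul]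
      exact h _ (by rw [pow_succ']; exact Ideal.mul_mem_mul hg hf)

variable (T : RS3 R) {a b : ℕ} (φ : (Fin b → R) →ₗ[R] (Fin a → R))

include T in
theorem eq_zero_of_pow_smul {c : R} {k : ℕ} (h : ∀ f ∈ IsLocalRing.maximalIdeal R ^ k, f * c = 0) : c = 0 :=
  T.x_reg c <| (Submodule.mem_bot R).1 (mem_of_saturated (⊥ : Submodule R R)
    (fun w hw => (Submodule.mem_bot R).2 (T.x_reg w ((Submodule.mem_bot R).1 (hw _ T.hx))))
    k (T.x * c) fun f hf => by
      rw [Submodule.mem_bot, smul_eq_mul, mul_left_comm, h f hf, mul_zero])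

include T in
/-- A kernel vector generating a primary ideal generates the kernel. -/
theorem exists_eq_smul {h : Fin b → R} {k : ℕ}
    (hJ : IsLocalRing.maximalIdeal R ^ k ≤ Ideal.span (Set.range h))
    (hcross : ∀ g, φ g = 0 → ∀ i j, ∃ l : ℕ, ∀ f ∈ IsLocalRing.maximalIdeal R ^ l, f * (h i * g j - h j * g i) = 0)
    (hh : φ h = 0) {g : Fin b → R} (hg : φ g = 0) : ∃ r : R, g = r • h := by
  let K : Ideal R :=
    { carrier := {c | ∃ r : R, c • g = r • h}
      zero_mem' := ⟨0, by rw [zero_smul, zero_smul]⟩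
      add_mem' := fun ⟨r, hr⟩ ⟨s, hs⟩ => ⟨r + s, by rw [add_smul, add_smul, hr, hs]⟩
      smul_mem' := fun c d ⟨r, hr⟩ => ⟨c * r, by rw [smul_eq_mul, mul_smul, hr, mul_smul]⟩ }
  have ann : ∀ c : R, (∀ i, c * h i = 0) → c = 0 := fun c hc => by
    refine eq_zero_of_pow_smul T (k := k) fun f hf => ?_
    have : Ideal.span (Set.range h) ≤ LinearMap.ker (LinearMap.mulLeft R c) :=
      Ideal.span_le.2 (by rintro _ ⟨i, rfl⟩; exact hc i)
    rw [mul_comm]
    exact this (hJ hf)
  have hJK : Ideal.span (Set.range h) ≤ K := Ideal.span_le.2 (by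
    rintro _ ⟨i, rfl⟩
    refine ⟨g i, funext fun j => ?_⟩
    obtain ⟨l, hl⟩ := hcross g hg i j
    have h0 := eq_zero_of_pow_smul T hl
    simp only [Pi.smul_apply, smul_eq_mul]
    rw [sub_eq_zero] at h0
    rw [h0, mul_comm])
  have h1 : (1 : R) ∈ K := mem_of_saturated K (fun c hc => by
    obtain ⟨cx, hcx⟩ := hc _ T.hx
    obtain ⟨cy, hcy⟩ := hc _ T.hy
    have e : T.y * cx = T.x * cy := sub_eq_zero.1 <| ann _ fun i => by
      have e1 := congrFun hcx i
      have e2 := congrFun hcy i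
      simp only [Pi.smul_apply, smul_eq_mul] at e1 e2
      linear_combination (-T.y) * e1 + T.x * e2
    obtain ⟨r, hr⟩ := T.y_reg cx ⟨cy, e⟩
    refine ⟨r, funext fun i => sub_eq_zero.1 (T.x_reg _ ?_)⟩
    have e1 := congrFun hcx i
    simp only [Pi.smul_apply, smul_eq_mul] at e1 ⊢
    rw [hr] at e1
    linear_combination e1) k 1 fun f hf => by
      rw [smul_eq_mul, mul_one]
      exact hJK (hJ hf)
  obtain ⟨r, hr⟩ := h1
  exact ⟨r, by rwa [one_smul] at hr⟩

include T in
/-- The range is saturated. -/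
theorem mem_range_of_pow {h : Fin b → R} (hh : φ h = 0) (hgen : ∀ g, φ g = 0 → ∃ r : R, g = r • h)
    (ann : ∀ c : R, c • h = 0 → c = 0) {w : Fin a → R} {k : ℕ}
    (hw : ∀ f ∈ IsLocalRing.maximalIdeal R ^ k, f • w ∈ LinearMap.range φ) : w ∈ LinearMap.range φ := by
  refine mem_of_saturated _ (fun w hw => ?_) k w hw
  obtain ⟨ux, hux⟩ := hw _ T.hx
  obtain ⟨uy, huy⟩ := hw _ T.hy
  obtain ⟨uz, huz⟩ := hw _ T.hz
  have mk : ∀ (f g : R) (uf ug : Fin b → R), φ uf = f • w → φ ug = g • w → ∃ c : R, g • uf - f • ug = c • h := by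
    intro f g uf ug h1 h2
    exact hgen _ (by rw [map_sub, map_smul, map_smul, h1, h2, smul_comm, sub_self])
  obtain ⟨cxy, exy⟩ := mk _ _ ux uy hux huy
  obtain ⟨cxz, exz⟩ := mk _ _ ux uz hux huz
  obtain ⟨cyz, eyz⟩ := mk _ _ uy uz huy huz
  have e : T.z * cxy - T.y * cxz + T.x * cyz = 0 := ann _ (by
    rw [add_smul, sub_smul, mul_smul, mul_smul, mul_smul, ← exy, ← exz, ← eyz]
    module)
  obtain ⟨α, β, hαβ⟩ : ∃ α β : R, α * T.x + β * T.y = cxy := Ideal.mem_span_pair.1 (T.z_reg cxy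
    (Ideal.mem_span_pair.2 ⟨-cyz, cxz, by linear_combination -e⟩))
  have ex : ∀ i, T.y * (ux i - β * h i) = T.x * (uy i + α * h i) := fun i => by
    have e1 := congrFun exy i
    simp only [Pi.smul_apply, smul_eq_mul, Pi.sub_apply] at e1
    rw [← hαβ] at e1
    linear_combination e1
  choose u hu using fun i => T.y_reg _ ⟨_, ex i⟩
  refine ⟨u, funext fun j => sub_eq_zero.1 (T.x_reg _ ?_)⟩
  have e2 : φ (ux - β • h) = T.x • φ u := by
    rw [← map_smul]
    exact congrArg φ (funext fun i => hu i)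
  rw [map_sub, map_smul, hux, hh, smul_zero, sub_zero] at e2
  have e3 := congrFun e2 j
  simp only [Pi.smul_apply, smul_eq_mul] at e3
  linear_combination -e3

end

section Flat

variable {A B : Type u} [CommRing A] [IsLocalRing A] [IsNoetherianRing A] [CommRing B] [IsNoetherianRing B]
  [Algebra A B] [Module.Flat A B]

local notation "𝔪" => IsLocalRing.maximalIdeal A
local notation "I" => Ideal.map (algebraMap A B) (IsLocalRing.maximalIdeal A)

/-- Coordinates of the graded pieces of the fibre filtration. -/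
theorem exists_graded_basis (n : ℕ) :
    ∃ (r : ℕ) (c : Fin r → B), (∀ i, c i ∈ I ^ n) ∧
      (∀ w ∈ I ^ n, ∃ β : Fin r → B, w - ∑ i, β i * c i ∈ I ^ (n + 1)) ∧
      ∀ β : Fin r → B, ∑ i, β i * c i ∈ I ^ (n + 1) → ∀ i, β i ∈ I := by
  let P : Submodule A (A ⧸ 𝔪 ^ (n + 1)) := Submodule.map (Submodule.mkQ (𝔪 ^ (n + 1))) (𝔪 ^ n : Submodule A A)
  haveI : Module.Finite A P := Module.Finite.of_fg ((IsNoetherian.noetherian (𝔪 ^ n)).map _)
  have hP : ∀ f ∈ 𝔪, ∀ p : P, f • p = 0 := by
    rintro f hf ⟨_, x, hx, rfl⟩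
    refine Subtype.ext ?_
    show f • Submodule.mkQ (𝔪 ^ (n + 1)) x = 0
    rw [← map_smul]
    exact (Submodule.Quotient.mk_eq_zero _).2 (by rw [pow_succ', smul_eq_mul]; exact Ideal.mul_mem_mul hf hx)
  letI : Module (A ⧸ 𝔪) P := Module.IsTorsionBySet.module (fun p f => hP f.1 f.2 p)
  haveI : IsScalarTower A (A ⧸ 𝔪) P := Module.IsTorsionBySet.isScalarTower _
  letI : Field (A ⧸ 𝔪) := Ideal.Quotient.field _
  haveI : Module.Finite (A ⧸ 𝔪) P := Module.Finite.of_restrictScalars_finite A _ _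
  let bP := Module.finBasis (A ⧸ 𝔪) P
  choose x hx hxe using fun i => (bP i).2
  let e : (Fin _ → A ⧸ 𝔪) →ₗ[A] A ⧸ 𝔪 ^ (n + 1) := P.subtype.comp (bP.equivFun.symm.toLinearMap.restrictScalars A)
  have he : Function.Injective e := Subtype.val_injective.comp bP.equivFun.symm.injective
  refine ⟨_, fun i => algebraMap A B (x i),
    fun i => Ideal.map_pow (algebraMap A B) 𝔪 n ▸ Ideal.mem_map_of_mem _ (hx i), fun w hw => ?_, fun β hβ i => ?_⟩
  · rw [← Ideal.map_pow, Ideal.map] at hw
    induction hw using Submodule.span_induction with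
    | mem y hy =>
      obtain ⟨m, hm, rfl⟩ := hy
      let p : P := ⟨Submodule.mkQ _ m, Submodule.mem_map_of_mem hm⟩
      choose c hc using fun i => Ideal.Quotient.mk_surjective (bP.repr p i)
      refine ⟨fun i => algebraMap A B (c i), ?_⟩
      simp only [← map_mul, ← map_sum, ← map_sub]
      rw [← Ideal.map_pow]
      refine Ideal.mem_map_of_mem _ ((Submodule.Quotient.mk_eq_zero _).1 ?_)
      rw [Submodule.Quotient.mk_sub, sub_eq_zero]
      have h1 : (p : A ⧸ 𝔪 ^ (n + 1)) = ∑ i, c i • Submodule.mkQ (𝔪 ^ (n + 1)) (x i) := by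
        conv_lhs => rw [← bP.sum_repr p]
        rw [AddSubmonoidClass.coe_finsetSum]
        refine Finset.sum_congr rfl fun i _ => ?_
        rw [← hc i, hxe i]
        show ((algebraMap A (A ⧸ 𝔪) (c i) • bP i : P) : A ⧸ 𝔪 ^ (n + 1)) = _
        rw [algebraMap_smul]
        rfl
      refine h1.trans ?_
      rw [← Submodule.mkQ_apply, map_sum]
      exact Finset.sum_congr rfl fun i _ => (map_smul _ _ _).symm
    | zero => exact ⟨0, by simp⟩
    | add y z _ _ hy hz =>
      obtain ⟨β, hβ⟩ := hy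
      obtain ⟨γ, hγ⟩ := hz
      refine ⟨β + γ, ?_⟩
      have := add_mem hβ hγ
      simp only [Pi.add_apply, add_mul, Finset.sum_add_distrib]
      convert this using 1
      ring
    | smul t y _ hy =>
      obtain ⟨β, hβ⟩ := hy
      refine ⟨t • β, ?_⟩
      have := Ideal.mul_mem_left _ t hβ
      simp only [Pi.smul_apply, smul_eq_mul, mul_assoc, ← Finset.mul_sum, ← mul_sub]
      exact this
  · let t : (Fin _ → A ⧸ 𝔪) ⊗[A] B := ∑ i, (Pi.single i 1) ⊗ₜ β i
    have hinj : Function.Injective (e.rTensor B) := Module.Flat.rTensor_preserves_injective_linearMap e he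
    have h0 : e.rTensor B t = 0 := by
      refine (TensorProduct.quotTensorEquivQuotSMul B (𝔪 ^ (n + 1))).injective ?_
      rw [map_zero]
      simp only [t, map_sum, LinearMap.rTensor_tmul]
      have e1 : ∀ i, e (Pi.single i 1) = Ideal.Quotient.mk (𝔪 ^ (n + 1)) (x i) := fun i => by
        show ((bP.equivFun.symm (Pi.single i 1) : P) : A ⧸ 𝔪 ^ (n + 1)) = _
        rw [Module.Basis.equivFun_symm_apply, Finset.sum_eq_single i (fun j _ hj => by rw [Pi.single_eq_of_ne hj, zero_smul])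
          (fun h => absurd (Finset.mem_univ i) h), Pi.single_eq_same, one_smul]
        exact (hxe i).symm
      simp only [e1, TensorProduct.quotTensorEquivQuotSMul_mk_tmul]
      simp only [← Submodule.mkQ_apply, ← map_sum]
      refine (Submodule.Quotient.mk_eq_zero _).2 ?_
      rw [Ideal.smul_top_eq_map, Ideal.map_pow]
      have : ∑ i, x i • β i = ∑ i, β i * algebraMap A B (x i) :=
        Finset.sum_congr rfl fun i _ => by rw [Algebra.smul_def, mul_comm]
      rw [this]
      exact hβ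
    have ht : t = 0 := hinj (h0.trans (map_zero _).symm)
    have h2 := congrArg ((LinearMap.proj i : (Fin _ → A ⧸ 𝔪) →ₗ[A] A ⧸ 𝔪).rTensor B) ht
    simp only [t, map_sum, LinearMap.rTensor_tmul, LinearMap.proj_apply, map_zero] at h2
    rw [Finset.sum_eq_single i (fun j _ hj => by rw [Pi.single_eq_of_ne (Ne.symm hj), TensorProduct.zero_tmul])
      (fun h => absurd (Finset.mem_univ i) h), Pi.single_eq_same] at h2
    have h3 := congrArg (TensorProduct.quotTensorEquivQuotSMul B 𝔪) h2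
    rw [map_zero, show (1 : A ⧸ 𝔪) = Ideal.Quotient.mk 𝔪 1 from rfl,
      TensorProduct.quotTensorEquivQuotSMul_mk_tmul, one_smul, Submodule.Quotient.mk_eq_zero,
      Ideal.smul_top_eq_map] at h3
    exact h3

end Flat

section Lift

variable {B : Type u} [CommRing B] [IsNoetherianRing B] [IsLocalRing B] {a b : ℕ}
  (φ : (Fin b → B) →ₗ[B] (Fin a → B)) (J : Ideal B)

/-- The reduced map. -/
noncomputable def redMap : (Fin b → B ⧸ J) →ₗ[B ⧸ J] (Fin a → B ⧸ J) :=
  Fintype.linearCombination (B ⧸ J) fun i j => Ideal.Quotient.mk J (φ (Pi.single i 1) j)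

theorem redMap_mk (v : Fin b → B) (j : Fin a) :
    redMap φ J (fun i => Ideal.Quotient.mk J (v i)) j = Ideal.Quotient.mk J (φ v j) := by
  have e : φ v = ∑ i, v i • φ (Pi.single i 1) := by
    conv_lhs => rw [pi_eq_sum_univ' v]
    rw [map_sum]
    exact Finset.sum_congr rfl fun i _ => map_smul φ _ _
  simp only [redMap, Fintype.linearCombination_apply, Finset.sum_apply, Pi.smul_apply, smul_eq_mul, e, map_sum,
    map_mul]

theorem map_mem_pow {c d : ℕ} (ψ : (Fin c → B) →ₗ[B] (Fin d → B)) (K : Ideal B) {v : Fin c → B}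
    (hv : ∀ i, v i ∈ K) (j : Fin d) : ψ v j ∈ K := by
  rw [pi_eq_sum_univ' v, map_sum, Finset.sum_apply]
  refine sum_mem fun i _ => ?_
  rw [map_smul, Pi.smul_apply, smul_eq_mul]
  exact Ideal.mul_mem_right _ _ (hv i)

variable [IsLocalRing (B ⧸ J)] 
  (hgr : ∀ n : ℕ, ∃ (r : ℕ) (c : Fin r → B), (∀ i, c i ∈ J ^ n) ∧
    (∀ w ∈ J ^ n, ∃ β : Fin r → B, w - ∑ i, β i * c i ∈ J ^ (n + 1)) ∧
    ∀ β : Fin r → B, ∑ i, β i * c i ∈ J ^ (n + 1) → ∀ i, β i ∈ J)
  (hH : ∃ k, ∀ f ∈ IsLocalRing.maximalIdeal B ^ k, ∃ H : (Fin a → B) →ₗ[B] (Fin b → B), ∀ v, φ (H (φ v)) = f • φ v)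
  (hsat : ∀ (w : Fin a → (B ⧸ J)) (k : ℕ),
    (∀ f ∈ IsLocalRing.maximalIdeal (B ⧸ J) ^ k, f • w ∈ LinearMap.range (redMap φ J)) → w ∈ LinearMap.range (redMap φ J))

include hgr hH hsat in
/-- One step of lifting. -/
theorem exists_step {n : ℕ} {v : Fin b → B} (hv : ∀ j, φ v j ∈ J ^ n) :
    ∃ u : Fin b → B, (∀ i, u i ∈ J ^ n) ∧ ∀ j, φ (v - u) j ∈ J ^ (n + 1) := by
  obtain ⟨r, c, hc, hgen, hind⟩ := hgr n
  choose β hβ using fun j => hgen _ (hv j)
  obtain ⟨k, hk⟩ := hH
  have hs : ∀ l, ∃ μ : Fin b → B, ∀ j, φ μ j - β j l ∈ J := by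
    intro l
    obtain ⟨μ, hμ⟩ := hsat (fun j => Ideal.Quotient.mk J (β j l)) k fun f hf => by
      rw [← IsLocalRing.map_maximalIdeal_of_surjective (Ideal.Quotient.mk J) Ideal.Quotient.mk_surjective,
        ← Ideal.map_pow, Ideal.mem_map_iff_of_surjective _ Ideal.Quotient.mk_surjective] at hf
      obtain ⟨g, hg, rfl⟩ := hf
      obtain ⟨H, hH⟩ := hk g hg
      choose γ hγ using fun i => hgen _ (map_mem_pow H (J ^ n) hv i)
      refine ⟨fun i => Ideal.Quotient.mk J (γ i l), funext fun j => ?_⟩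
      rw [redMap_mk, Pi.smul_apply, smul_eq_mul, ← map_mul, Ideal.Quotient.mk_eq_mk_iff_sub_mem]
      refine hind (fun l => φ (fun i => γ i l) j - g * β j l) ?_ l
      have e1 : ∑ l, (φ (fun i => γ i l) j - g * β j l) * c l =
          (φ (fun i => ∑ l, γ i l * c l) j - φ (H (φ v)) j) + g * (φ v j - ∑ l, β j l * c l) := by
        have e2 : φ (fun i => ∑ l, γ i l * c l) j = ∑ l, φ (fun i => γ i l) j * c l := by
          rw [show (fun i => ∑ l, γ i l * c l) = ∑ l, c l • fun i => γ i l from funext fun i => by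
            simp [mul_comm], map_sum, Finset.sum_apply]
          exact Finset.sum_congr rfl fun l _ => by rw [map_smul, Pi.smul_apply, smul_eq_mul, mul_comm]
        rw [e2, hH v, Pi.smul_apply, smul_eq_mul]
        simp only [sub_mul, Finset.sum_sub_distrib, mul_sub, Finset.mul_sum, mul_assoc]
        abel
      rw [e1]
      refine add_mem ?_ (Ideal.mul_mem_left _ g (hβ j))
      rw [← Pi.sub_apply, ← map_sub]
      refine map_mem_pow φ _ (fun i => ?_) j
      rw [Pi.sub_apply, ← neg_sub]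
      exact neg_mem (hγ i)
    choose μ' hμ' using fun i => Ideal.Quotient.mk_surjective (μ i)
    refine ⟨μ', fun j => ?_⟩
    rw [← Ideal.Quotient.mk_eq_mk_iff_sub_mem, ← redMap_mk]
    exact (congrArg (fun t => redMap φ J t j) (funext hμ')).trans (congrFun hμ j)
  choose μ hμ using hs
  refine ⟨∑ l, c l • μ l, fun i => ?_, fun j => ?_⟩
  · rw [Finset.sum_apply]
    exact sum_mem fun l _ => Ideal.mul_mem_right _ _ (hc l)
  · have e : φ (v - ∑ l, c l • μ l) j = (φ v j - ∑ l, β j l * c l) - ∑ l, c l * (φ (μ l) j - β j l) := by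
      rw [map_sub, map_sum, Pi.sub_apply, Finset.sum_apply]
      simp only [map_smul, Pi.smul_apply, smul_eq_mul, mul_sub, Finset.sum_sub_distrib, mul_comm (β j _)]
      abel
    rw [e]
    refine sub_mem (hβ j) (sum_mem fun l _ => ?_)
    rw [pow_succ]
    exact Ideal.mul_mem_mul (hc l) (hμ l j)

include hgr hH hsat in
/-- Reductions of kernel vectors lift. -/
theorem exists_kernel_lift {v : Fin b → B} (hv : ∀ j, φ v j ∈ J) :
    ∃ h : Fin b → B, φ h = 0 ∧ ∀ i, h i - v i ∈ J := by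
  have key : ∀ n, ∃ w : Fin b → B, (∀ i, w i - v i ∈ J) ∧ ∀ j, φ w j ∈ J ^ (n + 1) := by
    intro n
    induction n with
    | zero => exact ⟨v, fun i => by simp, fun j => by simpa using hv j⟩
    | succ n ih =>
      obtain ⟨w, hw, hw'⟩ := ih
      obtain ⟨u, hu, hu'⟩ := exists_step φ J hgr hH hsat hw'
      refine ⟨w - u, fun i => ?_, hu'⟩
      rw [Pi.sub_apply, sub_right_comm]
      exact sub_mem (hw i) (Ideal.pow_le_self (Nat.succ_ne_zero n) (hu i))
  obtain ⟨k, hk⟩ := Ideal.exists_pow_inf_eq_pow_smul (J : Ideal B) (LinearMap.range φ)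
  obtain ⟨w, hw, hw'⟩ := key k
  have hpi : ∀ (d : ℕ) (K : Ideal B) (x : Fin d → B), (∀ j, x j ∈ K) → x ∈ K • (⊤ : Submodule B (Fin d → B)) := by
    intro d K x hx
    rw [pi_eq_sum_univ' x]
    exact sum_mem fun j _ => Submodule.smul_mem_smul (hx j) Submodule.mem_top
  have hmem : φ w ∈ J ^ (k + 1) • (⊤ : Submodule B (Fin a → B)) ⊓ LinearMap.range φ :=
    ⟨hpi a _ _ hw', ⟨w, rfl⟩⟩
  rw [hk (k + 1) (Nat.le_succ k), Nat.add_sub_cancel_left, pow_one] at hmem
  have hle : J • (J ^ k • (⊤ : Submodule B (Fin a → B)) ⊓ LinearMap.range φ) ≤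
      (J • (⊤ : Submodule B (Fin b → B))).map φ := by
    rw [Submodule.map_smul'', Submodule.map_top]
    exact Submodule.smul_mono le_rfl inf_le_right
  obtain ⟨u, hu, hφu⟩ := hle hmem
  refine ⟨w - u, by rw [map_sub, hφu, sub_self], fun i => ?_⟩
  rw [Pi.sub_apply, sub_right_comm]
  refine sub_mem (hw i) ?_
  have h1 := Submodule.mem_map_of_mem (f := LinearMap.proj i) hu
  rw [Submodule.map_smul''] at h1
  exact (Submodule.smul_le.2 (fun r hr n _ => Ideal.mul_mem_right _ _ hr) : J • _ ≤ (J : Submodule B B)) h1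

end Lift

end Groth.Agent.FlatParaF
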