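import Groth.Agent.FlatParaF.FibreAlg
import Mathlib.RingTheory.Spectrum.Prime.Topology

/-!
A module locally free of rank one on the punctured spectrum, trivial on that of the fibre, is trivial there.
-/

set_option autoImplicit false
set_option maxHeartbeats 1000000
set_option linter.unusedSectionVars false
universe u

namespace Groth.Agent.FlatParaF

open IsLocalRing

variable {B : Type u} [CommRing B] [IsNoetherianRing B] [IsLocalRing B]

/-- Locally monogenic with a functional, away from the closed point. -/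
def Loc1 (N : Type u) [AddCommGroup N] [Module B N] : Prop :=
  ∀ p : Ideal B, p.IsPrime → p ≠ maximalIdeal B →
    ∃ f, f ∉ p ∧ ∃ (x : N) (g : N →ₗ[B] B), ∀ y, f • y = g y • x

theorem loc1_dual {N : Type u} [AddCommGroup N] [Module B N] (h : Loc1 (B := B) N) :
    Loc1 (B := B) (N →ₗ[B] B) := fun p hp hpm => by
  obtain ⟨f, hf, x, g, hg⟩ := h p hp hpm
  refine ⟨f, hf, g, LinearMap.applyₗ x, fun h' => LinearMap.ext fun y => ?_⟩
  show f • h' y = h' x • g y
  rw [← map_smul, hg, map_smul, smul_eq_mul, smul_eq_mul, mul_comm]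

theorem pow_le_of_forall (𝔞 : Ideal B) (h : ∀ p : Ideal B, p.IsPrime → p ≠ maximalIdeal B → ∃ f ∈ 𝔞, f ∉ p) :
    ∃ k, maximalIdeal B ^ k ≤ 𝔞 := by
  refine Ideal.exists_pow_le_of_le_radical_of_fg ?_ (IsNoetherian.noetherian _)
  rw [Ideal.radical_eq_sInf]
  refine le_sInf fun p ⟨hle, hp⟩ => ?_
  by_cases e : p = maximalIdeal B
  · exact e.ge
  · obtain ⟨f, hf, hf'⟩ := h p hp e
    exact absurd (hle hf) hf'

variable {J : Ideal B} [IsLocalRing (B ⧸ J)] (T : RS3 (B ⧸ J))

include T in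
theorem cross_eq (N : Type u) [AddCommGroup N] [Module B N] (hN : Loc1 (B := B) N) (u v : N →ₗ[B] B ⧸ J) (y z : N) :
    u y * v z = u z * v y := by
  refine sub_eq_zero.1 ?_
  generalize hδ : u y * v z - u z * v y = δ
  let 𝔞 : Ideal B := (⊥ : Submodule B (B ⧸ J)).colon {δ}
  obtain ⟨k, hk⟩ := pow_le_of_forall 𝔞 fun p hp hpm => by
    obtain ⟨f, hf, x, g, hg⟩ := hN p hp hpm
    refine ⟨f * f, Submodule.mem_colon_singleton.2 ((Submodule.mem_bot B).2 ?_), fun h => hf ((hp.mem_or_mem h).elim id id)⟩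
    have e1 : ∀ (w : N →ₗ[B] B ⧸ J) (t : N), f • w t = g t • w x := fun w t => by rw [← map_smul, hg, map_smul]
    rw [← hδ, smul_sub, sub_eq_zero, mul_smul, ← mul_smul_comm, ← smul_mul_assoc, e1 u, e1 v, mul_smul f f,
      ← mul_smul_comm, ← smul_mul_assoc, e1 u, e1 v, smul_mul_smul_comm, smul_mul_smul_comm, mul_comm (g y)]
  refine eq_zero_of_pow_smul T (k := k) fun f hf => ?_
  rw [← map_maximalIdeal_of_surjective (Ideal.Quotient.mk J) Ideal.Quotient.mk_surjective, ← Ideal.map_pow,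
    Ideal.mem_map_iff_of_surjective _ Ideal.Quotient.mk_surjective] at hf
  obtain ⟨f', hf', rfl⟩ := hf
  exact (Submodule.mem_bot B).1 (Submodule.mem_colon_singleton.1 (hk hf'))

/-- The kernel vectors of the reduced transpose are the functionals. -/
theorem exists_functional {N : Type u} [AddCommGroup N] [Module B N] {b a : ℕ} (π : (Fin b → B) →ₗ[B] N)
    (hπ : Function.Surjective π) (ψ : (Fin a → B) →ₗ[B] (Fin b → B)) (hψ : LinearMap.range ψ = LinearMap.ker π)
    (φ : (Fin b → B) →ₗ[B] (Fin a → B)) (hφ : ∀ v j, φ v j = ∑ i, v i * ψ (Pi.single j 1) i)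
    (g : Fin b → B ⧸ J) (hg : redMap φ J g = 0) :
    ∃ u : N →ₗ[B] B ⧸ J, ∀ i, u (π (Pi.single i 1)) = g i := by
  choose g' hg' using fun i => Ideal.Quotient.mk_surjective (g i)
  let ℓ : (Fin b → B) →ₗ[B] B ⧸ J := Fintype.linearCombination B g
  have hℓ : ∀ v : Fin b → B, ℓ v = ∑ i, Ideal.Quotient.mk J (v i) * g i := fun v => by
    simp only [ℓ, Fintype.linearCombination_apply, Algebra.smul_def]
    rfl
  have hψ0 : ℓ ∘ₗ ψ = 0 := LinearMap.pi_ext' fun j => LinearMap.ext_ring <| by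
    show ℓ (ψ (Pi.single j 1)) = 0
    have h1 := congrFun hg j
    rw [show g = fun i => Ideal.Quotient.mk J (g' i) from funext fun i => (hg' i).symm, redMap_mk, hφ] at h1
    rw [hℓ]
    simp only [← hg', ← map_mul, ← map_sum]
    refine Eq.trans ?_ h1
    exact congrArg _ (Finset.sum_congr rfl fun i _ => mul_comm _ _)
  have hle : LinearMap.ker π ≤ LinearMap.ker ℓ := by
    rw [← hψ]
    rintro _ ⟨w, rfl⟩
    exact LinearMap.congr_fun hψ0 w
  refine ⟨((LinearMap.ker π).liftQ ℓ hle).comp (π.quotKerEquivOfSurjective hπ).symm.toLinearMap, fun i => ?_⟩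
  · show (LinearMap.ker π).liftQ ℓ hle ((π.quotKerEquivOfSurjective hπ).symm (π (Pi.single i 1))) = g i
    rw [show (π.quotKerEquivOfSurjective hπ).symm (π (Pi.single i 1)) = Submodule.Quotient.mk (Pi.single i 1) from
      (π.quotKerEquivOfSurjective hπ).symm_apply_eq.2 rfl, Submodule.liftQ_apply]
    simp [ℓ, Fintype.linearCombination_apply_single]

variable (hgr : ∀ n : ℕ, ∃ (r : ℕ) (c : Fin r → B), (∀ i, c i ∈ J ^ n) ∧
    (∀ w ∈ J ^ n, ∃ β : Fin r → B, w - ∑ i, β i * c i ∈ J ^ (n + 1)) ∧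
    ∀ β : Fin r → B, ∑ i, β i * c i ∈ J ^ (n + 1) → ∀ i, β i ∈ J)

include T hgr in
/-- Functionals to the fibre with primary image lift, and generate. -/
theorem lift_functional (N : Type u) [AddCommGroup N] [Module B N] [Module.Finite B N] (hN : Loc1 (B := B) N)
    (h₀ : N →ₗ[B] B ⧸ J) (k : ℕ) (hk : ∀ f ∈ maximalIdeal (B ⧸ J) ^ k, ∃ x, h₀ x = f) :
    (∃ h : N →ₗ[B] B, ∀ y, Ideal.Quotient.mk J (h y) = h₀ y) ∧
      ∀ u : N →ₗ[B] B ⧸ J, ∃! r : B ⧸ J, ∀ y, u y = r * h₀ y := by
  classical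
  obtain ⟨b, π, hπ⟩ := Module.Finite.exists_fin' B N
  obtain ⟨a, ψ₀, hψ₀⟩ := Module.Finite.exists_fin' B (LinearMap.ker π)
  let ψ : (Fin a → B) →ₗ[B] (Fin b → B) := (LinearMap.ker π).subtype ∘ₗ ψ₀
  have hψ : LinearMap.range ψ = LinearMap.ker π := by
    rw [LinearMap.range_comp, LinearMap.range_eq_top.2 hψ₀, Submodule.map_top, Submodule.range_subtype]
  let φ : (Fin b → B) →ₗ[B] (Fin a → B) :=
    LinearMap.pi fun j => Fintype.linearCombination B (fun i => ψ (Pi.single j 1) i)
  have hφ : ∀ v j, φ v j = ∑ i, v i * ψ (Pi.single j 1) i := fun v j => by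
    simp [φ, Fintype.linearCombination_apply]
  let h : Fin b → B ⧸ J := fun i => h₀ (π (Pi.single i 1))
  have hexp : ∀ (u : N →ₗ[B] B ⧸ J) (w : Fin b → B),
      u (π w) = ∑ i, Ideal.Quotient.mk J (w i) * u (π (Pi.single i 1)) := fun u w => by
    conv_lhs => rw [pi_eq_sum_univ' w, map_sum, map_sum]
    exact Finset.sum_congr rfl fun i _ => by rw [map_smul, map_smul, Algebra.smul_def]; rfl
  have hker : ∀ u : N →ₗ[B] B ⧸ J, redMap φ J (fun i => u (π (Pi.single i 1))) = 0 := fun u => by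
    funext j
    choose w hw using fun i => Ideal.Quotient.mk_surjective (u (π (Pi.single i 1)))
    rw [show (fun i => u (π (Pi.single i 1))) = fun i => Ideal.Quotient.mk J (w i) from funext fun i => (hw i).symm,
      redMap_mk, hφ, map_sum, Pi.zero_apply]
    have h0 : π (ψ (Pi.single j 1)) = 0 := LinearMap.mem_ker.1 (hψ.le ⟨_, rfl⟩)
    rw [← map_zero u, ← h0, hexp]
    exact Finset.sum_congr rfl fun i _ => by rw [map_mul, hw, mul_comm]
  have hJ : maximalIdeal (B ⧸ J) ^ k ≤ Ideal.span (Set.range h) := fun f hf => by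
    obtain ⟨x, rfl⟩ := hk f hf
    obtain ⟨w, rfl⟩ := hπ x
    rw [hexp]
    exact sum_mem fun i _ => Ideal.mul_mem_left _ _ (Ideal.subset_span ⟨i, rfl⟩)
  have ann : ∀ c : B ⧸ J, c • h = 0 → c = 0 := fun c hc => by
    refine eq_zero_of_pow_smul T (k := k) fun f hf => ?_
    have : Ideal.span (Set.range h) ≤ LinearMap.ker (LinearMap.mulLeft (B ⧸ J) c) :=
      Ideal.span_le.2 (by rintro _ ⟨i, rfl⟩; exact congrFun hc i)
    rw [mul_comm]
    exact this (hJ hf)
  have hgen : ∀ g, redMap φ J g = 0 → ∃ r : B ⧸ J, g = r • h := fun g hg => by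
    refine exists_eq_smul T (redMap φ J) hJ (fun g hg i j => ?_) (hker h₀) hg
    obtain ⟨u, hu⟩ := exists_functional π hπ ψ hψ φ hφ g hg
    refine ⟨0, fun f _ => ?_⟩
    simp only [h, ← hu]
    rw [cross_eq T N hN h₀ u, sub_self, mul_zero]
  refine ⟨?_, fun u => ?_⟩
  · choose v hv using fun i => Ideal.Quotient.mk_surjective (h i)
    let 𝔞 : Ideal B :=
      { carrier := {f | ∃ σ : N →ₗ[B] (Fin b → B), ∀ y, π (σ y) = f • y}
        zero_mem' := ⟨0, fun y => by simp⟩
        add_mem' := fun ⟨σ, hσ⟩ ⟨τ, hτ⟩ => ⟨σ + τ, fun y => by simp [hσ, hτ, add_smul]⟩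
        smul_mem' := fun c d ⟨σ, hσ⟩ => ⟨c • σ, fun y => by simp [hσ, mul_smul]⟩ }
    obtain ⟨l, hl⟩ := pow_le_of_forall 𝔞 fun p hp hpm => by
      obtain ⟨f, hf, x, g, hg⟩ := hN p hp hpm
      obtain ⟨x', rfl⟩ := hπ x
      exact ⟨f, ⟨g.smulRight x', fun y => by simp [hg]⟩, hf⟩
    have hH : ∃ k, ∀ f ∈ maximalIdeal B ^ k,
        ∃ H : (Fin a → B) →ₗ[B] (Fin b → B), ∀ w, φ (H (φ w)) = f • φ w := by
      refine ⟨l, fun f hf => ?_⟩
      obtain ⟨σ, hσ⟩ := hl hf
      have hmem : ∀ i, f • (Pi.single i 1 : Fin b → B) - σ (π (Pi.single i 1)) ∈ LinearMap.range ψ := fun i => by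
        rw [hψ, LinearMap.mem_ker, map_sub, map_smul, hσ, sub_self]
      choose θ hθ using hmem
      refine ⟨LinearMap.pi fun i => Fintype.linearCombination B (θ i), fun w => funext fun j' => ?_⟩
      have e1 : ∀ i, (LinearMap.pi fun i => Fintype.linearCombination B (θ i)) (φ w) i =
          f * w i - ∑ l, w l * σ (π (Pi.single i 1)) l := fun i => by
        rw [LinearMap.pi_apply, Fintype.linearCombination_apply]
        calc ∑ j, φ w j • θ i j = ∑ l, w l * ψ (θ i) l := by
              simp only [hφ, smul_eq_mul, Finset.sum_mul]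
              rw [Finset.sum_comm]
              refine Finset.sum_congr rfl fun l _ => ?_
              conv_rhs => rw [pi_eq_sum_univ' (θ i)]
              simp only [map_sum, map_smul, Finset.sum_apply, Pi.smul_apply, smul_eq_mul, Finset.mul_sum]
              exact Finset.sum_congr rfl fun j _ => by ring
          _ = _ := by
              rw [hθ i]
              simp only [Pi.sub_apply, Pi.smul_apply, smul_eq_mul, mul_sub, Finset.sum_sub_distrib]
              rw [Finset.sum_eq_single i (fun l _ hl => by rw [Pi.single_eq_of_ne hl, mul_zero, mul_zero])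
                (fun h => absurd (Finset.mem_univ i) h), Pi.single_eq_same]
              ring
      rw [hφ]
      simp only [e1, sub_mul, Finset.sum_sub_distrib, Pi.smul_apply, smul_eq_mul, hφ, Finset.mul_sum, mul_assoc]
      rw [sub_eq_self]
      have h0 : π (ψ (Pi.single j' 1)) = 0 := LinearMap.mem_ker.1 (hψ.le ⟨_, rfl⟩)
      have h1 : σ (π (ψ (Pi.single j' 1))) = 0 := by rw [h0, map_zero]
      rw [pi_eq_sum_univ' (ψ (Pi.single j' 1)), map_sum, map_sum] at h1
      simp only [map_smul] at h1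
      have h2 : ∀ l, ∑ i, ψ (Pi.single j' 1) i * σ (π (Pi.single i 1)) l = 0 := fun l => by
        have := congrFun h1 l
        simpa [Finset.sum_apply] using this
      simp only [Finset.sum_mul]
      rw [Finset.sum_comm]
      refine Finset.sum_eq_zero fun l _ => ?_
      calc ∑ i, w l * σ (π (Pi.single i 1)) l * ψ (Pi.single j' 1) i
          = w l * ∑ i, ψ (Pi.single j' 1) i * σ (π (Pi.single i 1)) l := by
            rw [Finset.mul_sum]; exact Finset.sum_congr rfl fun i _ => by ring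
        _ = 0 := by rw [h2, mul_zero]
    have hv0 : ∀ j, φ v j ∈ J := fun j => by
      have h1 := congrFun (hker h₀) j
      rw [show (fun i => h₀ (π (Pi.single i 1))) = fun i => Ideal.Quotient.mk J (v i) from
        funext fun i => (hv i).symm, redMap_mk] at h1
      exact Ideal.Quotient.eq_zero_iff_mem.1 h1
    obtain ⟨h', hφ', hmod⟩ := exists_kernel_lift φ J hgr hH
      (fun w k hw => mem_range_of_pow T (redMap φ J) (hker h₀) hgen ann hw) hv0
    let ℓ : (Fin b → B) →ₗ[B] B := Fintype.linearCombination B h'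
    have hℓ : LinearMap.ker π ≤ LinearMap.ker ℓ := by
      rw [← hψ]
      rintro _ ⟨w, rfl⟩
      have : ℓ ∘ₗ ψ = 0 := LinearMap.pi_ext' fun j => LinearMap.ext_ring <| by
        show ℓ (ψ (Pi.single j 1)) = 0
        simp only [ℓ, Fintype.linearCombination_apply, smul_eq_mul]
        rw [← show φ h' j = 0 from congrFun hφ' j, hφ]
        exact Finset.sum_congr rfl fun i _ => mul_comm _ _
      exact LinearMap.congr_fun this w
    refine ⟨((LinearMap.ker π).liftQ ℓ hℓ).comp (π.quotKerEquivOfSurjective hπ).symm.toLinearMap, fun y => ?_⟩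
    obtain ⟨w, rfl⟩ := hπ y
    rw [LinearMap.comp_apply, LinearEquiv.coe_toLinearMap, show (π.quotKerEquivOfSurjective hπ).symm (π w) =
      Submodule.Quotient.mk w from (π.quotKerEquivOfSurjective hπ).symm_apply_eq.2 rfl, Submodule.liftQ_apply, hexp]
    simp only [ℓ, Fintype.linearCombination_apply, smul_eq_mul, map_sum, map_mul]
    refine Finset.sum_congr rfl fun i _ => ?_
    rw [Ideal.Quotient.mk_eq_mk_iff_sub_mem _ _ |>.2 (hmod i), hv]
  · obtain ⟨r, hr⟩ := hgen _ (hker u)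
    refine ⟨r, fun y => ?_, fun s hs => sub_eq_zero.1 (ann _ (funext fun i => ?_))⟩
    · obtain ⟨w, rfl⟩ := hπ y
      rw [hexp u, hexp h₀, Finset.mul_sum]
      refine Finset.sum_congr rfl fun i _ => ?_
      have e := congrFun hr i
      simp only [Pi.smul_apply, smul_eq_mul] at e
      rw [e]
      ring
    · have e := congrFun hr i
      simp only [Pi.smul_apply, smul_eq_mul, Pi.zero_apply] at e ⊢
      rw [sub_mul, sub_eq_zero, ← e, ← hs]

include T hgr in
/-- The module is trivial away from the closed point. -/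
theorem exists_trivializing [IsLocalHom (Ideal.Quotient.mk J)] (N : Type u) [AddCommGroup N] [Module B N]
    [Module.Finite B N] (hN : Loc1 (B := B) N) (h₀ : N →ₗ[B] B ⧸ J) (k : ℕ)
    (hk : ∀ f ∈ maximalIdeal (B ⧸ J) ^ k, ∃ x, h₀ x = f) :
    ∃ h : N →ₗ[B] B, ∀ p : Ideal B, p.IsPrime → p ≠ maximalIdeal B →
      (∃ x, h x ∉ p) ∧ ∀ y, h y = 0 → ∃ c, c ∉ p ∧ c • y = 0 := by
  obtain ⟨⟨h, hh⟩, huniq⟩ := lift_functional T hgr N hN h₀ k hk
  choose r hr hr' using fun g : N →ₗ[B] B => huniq ((Ideal.Quotient.mkₐ B J).toLinearMap ∘ₗ g)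
  let h'₀ : (N →ₗ[B] B) →ₗ[B] B ⧸ J :=
    { toFun := r
      map_add' := fun g g' => (hr' (g + g') (r g + r g') fun y => by
        simp only [LinearMap.comp_apply, LinearMap.add_apply, map_add, add_mul]
        exact congrArg₂ (· + ·) (hr g y) (hr g' y)).symm
      map_smul' := fun c g => (hr' (c • g) (c • r g) fun y => by
        simp only [LinearMap.comp_apply, LinearMap.smul_apply, map_smul, smul_mul_assoc]
        exact congrArg (c • ·) (hr g y)).symm }
  have h1 : h'₀ h = 1 := (hr' h 1 fun y => by rw [one_mul]; exact hh y).symm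
  obtain ⟨⟨h', hh'⟩, -⟩ := lift_functional T hgr (N →ₗ[B] B) (loc1_dual hN) h'₀ 0 fun f _ => by
    obtain ⟨c, rfl⟩ := Ideal.Quotient.mk_surjective f
    refine ⟨c • h, ?_⟩
    rw [map_smul, h1, Algebra.smul_def, mul_one]
    rfl
  have hu : IsUnit (h' h) := by
    refine IsUnit.of_map (Ideal.Quotient.mk J) _ ?_
    rw [hh', h1]
    exact isUnit_one
  refine ⟨h, fun p hp hpm => ?_⟩
  obtain ⟨f, hf, x, g, hg⟩ := hN p hp hpm
  have hx : h x ∉ p := fun hxp => by
    have e : f • h = h x • g := LinearMap.ext fun y => by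
      rw [LinearMap.smul_apply, LinearMap.smul_apply, ← map_smul, hg, map_smul, smul_eq_mul, smul_eq_mul, mul_comm]
    have e' := congrArg h' e
    rw [map_smul, map_smul, smul_eq_mul, smul_eq_mul] at e'
    have h2 : f * h' h ∈ p := e' ▸ Ideal.mul_mem_right _ _ hxp
    exact hf ((hp.mem_or_mem h2).resolve_right fun h3 => hp.ne_top (Ideal.eq_top_of_isUnit_mem _ h3 hu))
  refine ⟨⟨x, hx⟩, fun y hy => ⟨h x * f, fun h2 => (hp.mem_or_mem h2).elim hx hf, ?_⟩⟩
  have e : g y * h x = 0 := by rw [← smul_eq_mul, ← map_smul, ← hg, map_smul, hy, smul_zero]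
  rw [mul_smul, hg, smul_smul, mul_comm, e, zero_smul]

end Groth.Agent.FlatParaF
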